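import Cfsg.Agent.Lib.Helper56.J1Q.ChkP0
import Cfsg.Agent.Lib.Helper56.J1Q.ChkP1
import Cfsg.Agent.Lib.Helper56.J1Q.ChkP2
import Cfsg.Agent.Lib.Helper56.J1Q.ChkP3
import Cfsg.Agent.Lib.Helper56.J1Q.ChkP4
import Cfsg.Agent.Lib.Helper56.J1Q.ChkP5
import Cfsg.Agent.Lib.Helper56.J1Q.ChkP6
import Cfsg.Agent.Lib.Helper56.J1Q.ChkP7
import Cfsg.Agent.Lib.Helper56.J1Q.ChkP8
import Cfsg.Agent.Lib.Helper56.J1Q.ChkP9
import Cfsg.Agent.Lib.Helper56.J1Q.ChkP10
import Cfsg.Agent.Lib.Helper56.J1Q.ChkP11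
import Cfsg.Agent.Lib.Helper56.J1Q.ChkP12
import Cfsg.Agent.Lib.Helper56.J1Q.ChkP13
import Cfsg.Agent.Lib.Helper56.J1Q.ChkP14
import Cfsg.Agent.Lib.Helper56.J1Q.ChkP15
import Cfsg.Agent.Lib.Helper56.J1Q.ChkP16
import Cfsg.Agent.Lib.Helper56.J1Q.ChkP17
import Cfsg.Agent.Lib.Helper56.J1Q.ChkP18
import Cfsg.Agent.Lib.Helper56.J1Q.ChkF0
import Cfsg.Agent.Lib.Helper56.J1Q.ChkF1
import Cfsg.Agent.Lib.Helper56.J1Q.ChkF2
import Cfsg.Agent.Lib.Helper56.J1Q.ChkF3
import Cfsg.Agent.Lib.Helper56.J1Q.ChkF4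
import Cfsg.Agent.Lib.Helper56.J1Q.ChkF5
import Cfsg.Agent.Lib.Helper56.J1Q.ChkF6
import Cfsg.Agent.Lib.Helper56.J1Q.ChkF7
import Cfsg.Agent.Lib.Helper56.J1Q.ChkF8
import Cfsg.Agent.Lib.Helper56.J1Q.ChkF9
import Cfsg.Agent.Lib.Helper56.J1Q.ChkF10
import Cfsg.Agent.Lib.Helper56.J1Q.ChkF11
import Cfsg.Agent.Lib.Helper56.J1Q.ChkF12
import Cfsg.Agent.Lib.Helper56.J1Q.ChkF13
import Cfsg.Agent.Lib.Helper56.J1Q.ChkF14
import Cfsg.Agent.Lib.Helper56.J1Q.ChkF15
import Cfsg.Agent.Lib.Helper56.J1Q.ChkF16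
import Cfsg.Agent.Lib.Helper56.J1Q.ChkF17
import Cfsg.Agent.Lib.Helper56.J1Q.ChkF18
import Cfsg.Agent.Lib.Helper56.J1Q.ChkF19
import Cfsg.Agent.Lib.Helper56.J1Q.ChkF20
import Cfsg.Agent.Lib.Helper56.J1Q.ChkF21
import Cfsg.Agent.Lib.Helper56.J1Q.ChkF22
import Cfsg.Agent.Lib.Helper56.J1Q.ChkF23
import Cfsg.Agent.Lib.Helper56.J1Q.ChkF24
import Cfsg.Agent.Lib.Helper56.J1Q.ChkF25
import Cfsg.Agent.Lib.Helper56.J1Q.ChkF26
import Cfsg.Agent.Lib.Helper56.J1Q.ChkF27
import Cfsg.Agent.Lib.Helper56.J1Q.ChkF28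
import Cfsg.Agent.Lib.Helper56.J1Q.ChkF29
import Cfsg.Agent.Lib.Helper56.J1Q.ChkF30
import Cfsg.Agent.Lib.Helper56.J1Q.ChkF31
import Cfsg.Agent.Lib.Helper56.J1Q.ChkF32
import Cfsg.Agent.Lib.Helper56.J1Q.ChkF33
import Cfsg.Agent.Lib.Helper56.J1Q.ChkF34
import Cfsg.Agent.Lib.Helper56.J1Q.ChkC0
import Cfsg.Agent.Lib.Helper56.J1Q.ChkC1
import Cfsg.Agent.Lib.Helper56.J1Q.ChkC2
import Cfsg.Agent.Lib.Helper56.J1Q.ChkC3
import Cfsg.Agent.Lib.Helper56.J1Q.ChkC4

set_option autoImplicit false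
set_option linter.unusedVariables false

namespace Cfsg.Agent.Lib.Helper56.J1Q

open Cfsg.Agent.Lib.Helper28.TC

noncomputable section

def NNpad : ℕ := 35840
theorem permP_all : ∀ i, i < nn → permP i = true := by
  refine all_of_blocks nn permP 8 19 (by decide) ?_
  intro k hk
  interval_cases k
  · exact permP_blk0
  · exact permP_blk1
  · exact permP_blk2
  · exact permP_blk3
  · exact permP_blk4
  · exact permP_blk5
  · exact permP_blk6
  · exact permP_blk7
  · exact permP_blk8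
  · exact permP_blk9
  · exact permP_blk10
  · exact permP_blk11
  · exact permP_blk12
  · exact permP_blk13
  · exact permP_blk14
  · exact permP_blk15
  · exact permP_blk16
  · exact permP_blk17
  · exact permP_blk18

theorem factP_all : ∀ i, i < NNpad → factP i = true := by
  refine allBlocks_spec factP 10 35 ?_
  intro k hk
  interval_cases k
  · exact factP_blk0
  · exact factP_blk1
  · exact factP_blk2
  · exact factP_blk3
  · exact factP_blk4
  · exact factP_blk5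
  · exact factP_blk6
  · exact factP_blk7
  · exact factP_blk8
  · exact factP_blk9
  · exact factP_blk10
  · exact factP_blk11
  · exact factP_blk12
  · exact factP_blk13
  · exact factP_blk14
  · exact factP_blk15
  · exact factP_blk16
  · exact factP_blk17
  · exact factP_blk18
  · exact factP_blk19
  · exact factP_blk20
  · exact factP_blk21
  · exact factP_blk22
  · exact factP_blk23
  · exact factP_blk24
  · exact factP_blk25
  · exact factP_blk26
  · exact factP_blk27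
  · exact factP_blk28
  · exact factP_blk29
  · exact factP_blk30
  · exact factP_blk31
  · exact factP_blk32
  · exact factP_blk33
  · exact factP_blk34

theorem closedP_all : ∀ i, i < nn → closedP i = true := by
  refine all_of_blocks nn closedP 10 5 (by decide) ?_
  intro k hk
  interval_cases k
  · exact closedP_blk0
  · exact closedP_blk1
  · exact closedP_blk2
  · exact closedP_blk3
  · exact closedP_blk4

theorem hotA_lt : hotA < 2 ^ (33 * 35840) := by decide +kernel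
theorem hotE0_lt : hotE0 < 2 ^ (33 * 35840) := by decide +kernel
theorem hotE1_lt : hotE1 < 2 ^ (33 * 35840) := by decide +kernel
theorem hotE2_lt : hotE2 < 2 ^ (33 * 35840) := by decide +kernel
theorem subFix : allList (fun w => Nat.beq (act tf w 0) 0) subWords = true := by decide +kernel

end

end Cfsg.Agent.Lib.Helper56.J1Q
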